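import Groth.Agent.TameHurwitz24.Main
import Groth.Agent.S7688
import Groth.Agent.Coherent.FibreVanish
import Groth.Agent.VarietyLib.ProperCurveAmple
import Groth.Agent.Coherent.DevissageIdeal
import Groth.Agent.Coherent.CohOps

/-!
# The Euler characteristic identity of the discriminant
-/

set_option autoImplicit false
set_option linter.style.haveILetI false
set_option linter.unusedSectionVars false
set_option backward.isDefEq.respectTransparency.types false
set_option maxHeartbeats 1600000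

universe u

open CategoryTheory CategoryTheory.Limits AlgebraicGeometry Opposite TopologicalSpace
open Groth.Agent.Coherent Groth.Agent.PicLib Groth.Agent.AmpleLib Groth.Agent.FinCovLib29
open Groth.Agent.CycLib28.PB.Ops (dual isFinLocFreeOfRank_dual)

noncomputable section

namespace Groth.Agent.TameHurwitz24

variable (k : Type u) [Field k] {X Y : Scheme.{u}} [X.Over (Spec (CommRingCat.of k))] [Y.Over (Spec (CommRingCat.of k))]
  [IsProper (X ↘ Spec (CommRingCat.of k))] [IsProper (Y ↘ Spec (CommRingCat.of k))] [IsIntegral X] [IsIntegral Y]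
  (hdX : topologicalKrullDim X = 1) (hdY : topologicalKrullDim Y = 1)
  (hnX : ∀ x : X, IsIntegrallyClosed (X.presheaf.stalk x)) (hnY : ∀ y : Y, IsIntegrallyClosed (Y.presheaf.stalk y))
  (f : X ⟶ Y) [IsFinite f] (hf : f ≫ (Y ↘ Spec (CommRingCat.of k)) = X ↘ Spec (CommRingCat.of k))
  (e : f (genericPoint X) = genericPoint Y)
  (hsep : letI := ((Y.presheaf.stalkSpecializes (specializes_of_eq e) ≫ f.stalkMap (genericPoint X)).hom).toAlgebra
    Algebra.IsSeparable Y.functionField X.functionField)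

include hdX hdY hnX hnY hf e hsep in
/-- The Hurwitz identity with the multiplicities of the different. -/
theorem ramification_identity :
    letI := ((Y.presheaf.stalkSpecializes (specializes_of_eq e) ≫ f.stalkMap (genericPoint X)).hom).toAlgebra
    ∃ (S : Finset X) (cnt : X → ℕ),
      (∀ x ∈ S, IsClosed ({x} : Set X) ∧ 0 < degAt k x ∧ ramAt f x - 1 ≤ cnt x ∧
        (cnt x = ramAt f x - 1 ↔ TameAt f x)) ∧
      (∀ x, IsClosed ({x} : Set X) → x ∉ S → ramAt f x - 1 = 0 ∧ TameAt f x) ∧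
      2 * ((1 - Curv2.euler k X (Coh.structureModule X)) - 1) =
        (Module.finrank Y.functionField X.functionField : ℤ) *
          (2 * ((1 - Curv2.euler k Y (Coh.structureModule Y)) - 1)) +
        ((∑ x ∈ S, cnt x * degAt k x : ℕ) : ℤ) := by
  letI := ((Y.presheaf.stalkSpecializes (specializes_of_eq e) ≫ f.stalkMap (genericPoint X)).hom).toAlgebra
  classical
  haveI := EulerLib.isNoetherian_of_proper k (X := X)
  haveI := EulerLib.isNoetherian_of_proper k (X := Y)
  haveI : IsDominant f := Hurwitz24.isDominant_of_generic f e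
  haveI : Flat f := Hurwitz24.flat_of_dominant f e hdY.le hnY
  haveI : LocallyOfFinitePresentation f := CohBC.locallyOfFinitePresentation_of_isLocallyNoetherian f
  let N := f.residueDegree (genericPoint X)
  have hrk0 : FlatMod.IsFinLocFreeOfRank N ((Coh.push f).obj (Coh.structureModule X)) :=
    Split8.isFinLocFreeOfRank_push_of_finrank f fun y => (Hurwitz24.residueDegree_eq_finrank f e y).symm
  have hr : FlatMod.IsFinLocFreeOfRank N (algP f).toModule := Frob15.rank_algY hrk0
  have hA : FlatMod.IsFinLocFree (algP f).toModule := Frob15.flf_algY hrk0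
  -- good affine neighbourhoods
  have hgoodOf : ∀ (W : Y.Opens), IsAffineOpen W → ∀ Z : Set Y, Z.Finite → Z ⊆ W → ∃ U : Y.Opens,
      Z ⊆ U ∧ U ≤ W ∧ IsAffineOpen U ∧ Good (algP f) U ∧
      Nonempty (Module.Basis (Fin N) Γ(Y, U) Γ((Coh.push f).obj (Coh.structureModule X), U)) := by
    intro W hW Z hZ hZW
    obtain ⟨U, hZU, hUW, hU, ⟨eU⟩⟩ := LocFreeLib.exists_iso_freeMod_basicOpen hrk0 hW Z hZ hZW
    exact ⟨U, hZU, hUW, hU, good_of_iso (algP f)
      ((Scheme.Modules.restrictFunctor U.ι).mapIso (Frob15.algIso f) ≪≫ eU),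
      Props12.exists_basis_sections eU le_rfl⟩
  have hnbhd : ∀ (W : Y.Opens), ∀ y ∈ W, ∃ U : Y.Opens, y ∈ U ∧ U ≤ W ∧ IsAffineOpen U ∧ Good (algP f) U := by
    intro W y hy
    obtain ⟨V, hV, hyV, hVW⟩ := exists_isAffineOpen_mem_and_subset (x := y) (U := W) hy
    obtain ⟨U, hyU, hUV, hU, hg, -⟩ := hgoodOf V hV {y} (Set.finite_singleton y) (Set.singleton_subset_iff.2 hyV)
    exact ⟨U, hyU rfl, hUV.trans hVW, hU, hg⟩
  let E := (algP f).toModule
  let Q := disc f hA
  have hE : Coh.IsCoh E := SplitP1.isCoh_of_rank hr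
  have hD : Coh.IsCoh (dual E) := SplitP1.isCoh_of_rank (isFinLocFreeOfRank_dual hr)
  have hQ : Coh.IsCoh Q := isCoh_cokernel (traceMap f hA) hE.1 hD
  haveI : Coh.IsQCoh Q := hQ.1
  haveI : Mono (traceMap f hA) := mono_of_sections_injective _ fun W a b hab => by
    refine AmpleLib.sec_ext E a b fun y hy => ?_
    obtain ⟨U, hyU, hUW, hU, hg⟩ := hnbhd W y hy
    refine ⟨U, hUW, hyU, (chart k hdX hdY hnX hnY f hf e hsep hA hU ⟨⟨y, hyU⟩⟩ hg).1 ?_⟩
    rw [app_resM, app_resM, hab]
  -- the support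
  have hcl : IsClosed (CohB1.support Q) := isClosed_support Q (locallyFinGen_of_isFT Q hQ.2)
  have hη : genericPoint Y ∉ CohB1.support Q := by
    obtain ⟨U, hηU, -, hU, hg⟩ := hnbhd ⊤ (genericPoint Y) trivial
    obtain ⟨-, ⟨d, hd0, hd⟩, -⟩ := chart k hdX hdY hnX hnY f hf e hsep hA hU ⟨⟨_, hηU⟩⟩ hg
    refine fun hne => hne (subsingleton_of_forall_eq 0 fun t => ?_)
    obtain ⟨V, hV, s, rfl⟩ := Q.presheaf.exists_germ_eq t
    obtain ⟨g, hgV, hηg⟩ := hU.exists_basicOpen_le (V := V) ⟨genericPoint Y, hV⟩ hηU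
    have hle : Y.basicOpen (d * g) ≤ V := (Scheme.basicOpen_mul _ d g).trans_le (inf_le_right.trans hgV)
    have hηdg : genericPoint Y ∈ Y.basicOpen (d * g) := by
      rw [Scheme.basicOpen_mul]
      refine ⟨?_, hηg⟩
      have hb : Y.basicOpen d ≠ ⊥ := fun hb => hd0 ((basicOpen_eq_bot_iff d).1 hb)
      obtain ⟨w, hw⟩ := Opens.ne_bot_iff_nonempty _ |>.1 hb
      exact ((genericPoint_spec Y).mem_open_set_iff (Y.basicOpen d).2).2 ⟨w, trivial, hw⟩
    haveI : Subsingleton Γ(Q, Y.basicOpen (d * g)) := subsingleton_of_forall_eq 0 fun z => by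
      obtain ⟨n, w, hw⟩ := qcoh_exists_pow_smul hU Q (d * g) z
      have h1 : (d * g) • w = 0 := by rw [mul_comm, mul_smul, hd, smul_zero]
      have h2 := congrArg (resM Q (Y.basicOpen_le (d * g))) h1
      rw [map_zero, resM_smul, hw, smul_smul, ← map_mul, ← pow_succ'] at h2
      refine (IsUnit.smul_eq_zero ?_).1 h2
      rw [map_pow]
      exact (RingedSpace.isUnit_res_basicOpen Y.toRingedSpace (d * g)).pow _
    erw [← TopCat.Presheaf.germ_res_apply Q.presheaf (homOfLE hle) _ hηdg s]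
    exact (congrArg (Q.presheaf.germ _ _ hηdg) (Subsingleton.elim _ 0)).trans (map_zero _)
  obtain ⟨hTfin, hTc⟩ := S7688.finite_of_isClosed_no_generic hdY.le hcl fun y hy hy' => hη (by
    have h1 : closure ({y} : Set Y) ∈ irreducibleComponents (Y : Type u) := hy'
    rw [irreducibleComponents_eq_singleton, Set.mem_singleton_iff] at h1
    exact ((genericPoint_spec Y).eq h1).symm ▸ hy)
  -- an affine open containing the support
  obtain ⟨L, -, hL⟩ := VarietyLib.exists_ample_of_dim_le_one k (X := Y) hdY.le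
  obtain ⟨m, -, b, hZW, -, hW⟩ := exists_affine_glocus_finite (U := (⊤ : Y.Opens)) hL
    (insert (genericPoint Y) (CohB1.support Q)) (hTfin.insert _) (fun _ _ => trivial)
  obtain ⟨U, hZU, -, hU, hg, ⟨bU⟩⟩ := hgoodOf _ hW _ (hTfin.insert _) hZW
  have hUne : Nonempty U := ⟨⟨_, hZU (Set.mem_insert _ _)⟩⟩
  have hTU : CohB1.support Q ⊆ U := (Set.subset_insert _ _).trans hZU
  obtain ⟨-, -, S, cnt, hS1, hS2, hS3, hS4⟩ := chart k hdX hdY hnX hnY f hf e hsep hA hU hUne hg
  refine ⟨S, cnt, fun x hx => ⟨(hS1 x hx).2, hS3 x hx⟩, fun x hxc hxS => ?_, ?_⟩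
  · by_cases hxU : f x ∈ U
    · exact hS2 x hxU hxc hxS
    obtain ⟨U', hxU', hU'T, hU', hg'⟩ := hnbhd ⟨(CohB1.support Q)ᶜ, hcl.isOpen_compl⟩ (f x) fun h => hxU (hTU h)
    obtain ⟨-, -, S', cnt', -, hS2', hS3', hS4'⟩ := chart k hdX hdY hnX hnY f hf e hsep hA hU' ⟨⟨_, hxU'⟩⟩ hg'
    by_cases hx' : x ∈ S'
    · letI := Module.compHom Γ(disc f hA, U') ((Y.presheaf.map (homOfLE (le_top : U' ≤ ⊤)).op).hom.comp (baseHom k Y))
      haveI : Subsingleton Γ(disc f hA, U') :=
        subsingleton_sections_of_disjoint Q U' (Set.disjoint_left.2 fun z hz hzT => hU'T hz hzT)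
      rw [Module.finrank_zero_of_subsingleton] at hS4'
      have h0 := (Finset.sum_eq_zero_iff.1 hS4'.symm) x hx'
      obtain ⟨hpos, hle, hiff⟩ := hS3' x hx'
      have hc : cnt' x = 0 := (Nat.mul_eq_zero.1 h0).resolve_right hpos.ne'
      rw [hc] at hle hiff
      exact ⟨Nat.le_zero.1 hle, hiff.1 (Nat.le_zero.1 hle).symm⟩
    · exact hS2' x hxU' hxc hx'
  -- the degree
  have hN : Module.finrank Y.functionField X.functionField = N := by
    haveI := hUne
    haveI := nonempty_preimage f e (U := U)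
    obtain ⟨hfree, hfin⟩ := good_iff_affine_free (algP f) hg
    refine (fraction_data f e hU hsep (app_injective f e hU) ⟨hfree, hfin, ?_⟩).2
    letI := (f.app U).hom.toAlgebra
    let b' : Module.Basis (Fin N) Γ(Y, U) Γ(X, f ⁻¹ᵁ U) :=
      bU.map { toFun := fun x => x, invFun := fun x => x, map_add' := fun _ _ => rfl, map_smul' := fun _ _ => rfl }
    rw [Module.finrank_eq_card_basis b', Fintype.card_fin]
  have hQ0 : Curv2.euler k Y Q = ((∑ x ∈ S, cnt x * degAt k x : ℕ) : ℤ) := by
    rw [EulerLib.euler_eq_sum k Y Q 0 fun q hq =>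
      subsingleton_HH_of_support_finite Q _ hTfin (fun z hz => hTc _ (Set.singleton_subset_iff.2 hz)) subset_rfl q hq]
    rw [Finset.sum_range_one, pow_zero, one_mul, Nat.cast_inj]
    letI := Module.compHom Γ(disc f hA, U) ((Y.presheaf.map (homOfLE (le_top : U ≤ ⊤)).op).hom.comp (baseHom k Y))
    let R : GA (baseHom k Y) Q →ₗ[k] Γ(disc f hA, U) :=
      { toFun := fun s => resM Q (le_top : U ≤ ⊤) (show Γ(Q, ⊤) from s)
        map_add' := fun a b => map_add (resM Q (le_top : U ≤ ⊤)) _ _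
        map_smul' := fun c a => resM_smul Q le_top (baseHom k Y c) (show Γ(Q, ⊤) from a) }
    have hR : Function.Bijective R := CurveRR24.bijective_resM_of_support Q _ hcl subset_rfl hTU
    rw [(CurveRR24.hhZero k Q).finrank_eq, (LinearEquiv.ofBijective R hR).finrank_eq, hS4]
  have hEX : Curv2.euler k Y E = Curv2.euler k X (Coh.structureModule X) := by
    rw [EulerLib.euler_congr k Y (Frob15.algIso f)]
    refine finsum_congr fun q => ?_
    haveI : Coh.IsQCoh (Coh.structureModule X) := (isCoh_structureModule X).1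
    rw [H0Growth23.finrank_HH_push k f hf (Coh.structureModule X) (acyclicOverBasis_affine f _) q]
  have hdual := VB5.gdeg_dual k hdY hnY N hr
  rw [VB5.gdeg, VB5.gdeg, VB5.grk_eq hr, VB5.grk_eq (isFinLocFreeOfRank_dual hr)] at hdual
  have hadd := EulerLib.euler_additive k Y
    (ShortComplex.mk (traceMap f hA) (cokernel.π (traceMap f hA)) (cokernel.condition _))
    { exact := ShortComplex.exact_of_g_is_cokernel _ (cokernelIsCokernel _) } hE hD hQ
  change Curv2.euler k Y (dual E) = Curv2.euler k Y E + Curv2.euler k Y Q at hadd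
  rw [hN, ← hQ0, ← hEX]
  linarith [hdual, hadd]

end Groth.Agent.TameHurwitz24
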