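import Groth.Agent.Et18.AlgClosedGeneric
import Groth.Agent.CurvesLib24.Basic
import Mathlib.RingTheory.DedekindDomain.Basic

/-!
# Affine opens of normal integral curves are Dedekind
-/

set_option autoImplicit false
set_option backward.isDefEq.respectTransparency.types false

universe u

open CategoryTheory AlgebraicGeometry Opposite TopologicalSpace

namespace Groth.Agent.TameHurwitz24

theorem isClosed_of_ne_generic {X : Scheme.{u}} [IsIntegral X] (hdim : topologicalKrullDim X ≤ 1) {z : X}
    (hz : z ≠ genericPoint X) : IsClosed ({z} : Set X) := by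
  have h := Order.krullDim_le_one_iff.1 hdim
  let Z : IrreducibleCloseds X := ⟨closure {z}, isIrreducible_singleton.closure, isClosed_closure⟩
  let T : IrreducibleCloseds X := ⟨Set.univ, IrreducibleSpace.isIrreducible_univ X, isClosed_univ⟩
  rcases h Z with hmin | hmax
  · have : closure ({z} : Set X) = {z} := by
      refine subset_antisymm (fun w hw => ?_) subset_closure
      let W : IrreducibleCloseds X := ⟨closure {w}, isIrreducible_singleton.closure, isClosed_closure⟩
      have hle : W ≤ Z := closure_minimal (Set.singleton_subset_iff.2 hw) isClosed_closure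
      have := hmin hle (subset_closure rfl : z ∈ (Z : Set X))
      exact ((specializes_iff_mem_closure.2 hw).antisymm (specializes_iff_mem_closure.2 this)).eq.symm
    exact closure_eq_iff_isClosed.1 this
  · exfalso
    have : (genericPoint X) ∈ (Z : Set X) := hmax (show Z ≤ T from fun _ _ => trivial) trivial
    exact hz ((genericPoint_specializes z).antisymm (specializes_iff_mem_closure.2 this)).eq.symm

theorem isMaximal_primeIdealOf {X : Scheme.{u}} {U : X.Opens} (hU : IsAffineOpen U) (x : U)
    (hx : IsClosed ({x.1} : Set X)) : (hU.primeIdealOf x).asIdeal.IsMaximal := by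
  refine (PrimeSpectrum.isClosed_singleton_iff_isMaximal _).1 ?_
  have h := hx.preimage hU.fromSpec.continuous
  convert! h using 1
  ext Q
  refine ⟨fun h => ?_, fun h => hU.fromSpec.isOpenEmbedding.injective ?_⟩
  · rw [Set.mem_singleton_iff.1 h]
    exact hU.fromSpec_primeIdealOf x
  · exact h.trans (hU.fromSpec_primeIdealOf x).symm

theorem isClosed_fromSpec {X : Scheme.{u}} [IsIntegral X] (hdim : topologicalKrullDim X ≤ 1) {U : X.Opens}
    (hU : IsAffineOpen U) [Nonempty U] (P : PrimeSpectrum Γ(X, U)) (hP : P.asIdeal ≠ ⊥) :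
    IsClosed ({hU.fromSpec P} : Set X) := by
  refine isClosed_of_ne_generic hdim fun hz => hP ?_
  have hηU : genericPoint X ∈ U := hz ▸ hU.range_fromSpec.le ⟨_, rfl⟩
  have h1 : P = hU.primeIdealOf ⟨genericPoint X, hηU⟩ :=
    hU.fromSpec.isOpenEmbedding.injective (by rw [hU.fromSpec_primeIdealOf]; exact hz)
  rw [h1, hU.primeIdealOf_genericPoint, genericPoint_eq_bot_of_affine]
  rfl

theorem isDedekindDomain_sections (X : Scheme.{u}) [IsIntegral X] [IsLocallyNoetherian X]
    (hdim : topologicalKrullDim X ≤ 1) (hn : ∀ x : X, IsIntegrallyClosed (X.presheaf.stalk x))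
    {U : X.Opens} (hU : IsAffineOpen U) [Nonempty U] : IsDedekindDomain Γ(X, U) := by
  haveI : IsNoetherianRing Γ(X, U) := IsLocallyNoetherian.component_noetherian ⟨U, hU⟩
  haveI := Et18.AlgClosedGeneric.isIntegrallyClosed_sections X hn hU
  haveI : Ring.DimensionLEOne Γ(X, U) := ⟨fun {p} hp hpp => by
    have h := isClosed_fromSpec hdim hU ⟨p, hpp⟩ hp
    obtain ⟨x, hx⟩ : ∃ x : U, x.1 = hU.fromSpec ⟨p, hpp⟩ := ⟨⟨_, hU.range_fromSpec.le ⟨_, rfl⟩⟩, rfl⟩
    have h2 := isMaximal_primeIdealOf hU x (hx ▸ h)
    have h3 : hU.primeIdealOf x = ⟨p, hpp⟩ :=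
      hU.fromSpec.isOpenEmbedding.injective ((hU.fromSpec_primeIdealOf x).trans hx)
    rw [h3] at h2
    exact h2⟩
  haveI : IsDedekindRing Γ(X, U) := {}
  exact ⟨⟩

end Groth.Agent.TameHurwitz24
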