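import Mathlib
import Groth.Agent.CAlgH3.DedekindTrace

/-!
# The different and the cokernel of the trace pairing
-/

set_option autoImplicit false
set_option linter.style.haveILetI false

universe u

open nonZeroDivisors UniqueFactorizationMonoid

namespace Groth.Agent.TameHurwitz24

attribute [local instance] FractionRing.liftAlgebra

section
variable (A : Type u) {B : Type u} [CommRing A] [IsDomain A] [IsDedekindDomain A]
  [CommRing B] [IsDomain B] [IsDedekindDomain B] [Algebra A B] [Module.Finite A B] [Module.Free A B]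
  [Module.IsTorsionFree A B] [Algebra.IsSeparable (FractionRing A) (FractionRing B)]

/-- The trace pairing is injective and its cokernel is cyclic, with annihilator the different. -/
theorem exists_trace_coker :
    Function.Injective (Algebra.traceForm A B) ∧
      ∃ g : B →ₗ[A] A,
        (∀ f : B →ₗ[A] A, ∃ r s : B, f = Algebra.traceForm A B s + g ∘ₗ LinearMap.mulLeft A r) ∧
        ∀ r : B, (∃ s : B, Algebra.traceForm A B s = g ∘ₗ LinearMap.mulLeft A r) ↔ r ∈ differentIdeal A B := by
  classical
  let K := FractionRing A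
  let L := FractionRing B
  haveI : IsLocalization (Algebra.algebraMapSubmonoid B A⁰) L := IsIntegralClosure.isLocalization _ K _ _
  haveI : FiniteDimensional K L := .of_isLocalization A B A⁰
  let b := Module.Free.chooseBasis A B
  let bL := b.localizationLocalization K A⁰ L
  let bd := bL.traceDual
  have hbL : ∀ i, bL i = algebraMap B L (b i) := fun i => Module.Basis.localizationLocalization_apply K A⁰ L b i
  have hinjA : Function.Injective (algebraMap A K) := IsFractionRing.injective A K
  have hinjB : Function.Injective (algebraMap B L) := IsFractionRing.injective B L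
  let Φ : (B →ₗ[A] A) →ₗ[A] L := ∑ i, (LinearMap.applyₗ (b i)).smulRight (bd i)
  have hrepr : ∀ f i, bd.repr (Φ f) i = algebraMap A K (f (b i)) := fun f i => by
    have h1 : Φ f = ∑ j, (algebraMap A K (f (b j))) • bd j := by
      simp [Φ, LinearMap.smulRight_apply, algebraMap_smul]
    rw [h1]
    simp only [map_sum, map_smul, Finsupp.finsetSum_apply, Module.Basis.repr_self, Finsupp.smul_apply,
      Finsupp.single_apply, smul_eq_mul, mul_ite, mul_one, mul_zero]
    simp
  have hΦ : Function.Injective Φ := fun f f' h => b.ext fun i => hinjA (by rw [← hrepr, ← hrepr, h])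
  have htr : ∀ x : B, algebraMap A K (Algebra.trace A B x) = Algebra.trace K L (algebraMap B L x) := fun x => by
    rw [← Algebra.intTrace_eq_trace, Algebra.algebraMap_intTrace (L := L)]
  have hself : ∀ x : B, Φ (Algebra.traceForm A B x) = algebraMap B L x := fun x =>
    bd.repr.injective (Finsupp.ext fun i => by
      rw [hrepr, Module.Basis.traceDual_repr_apply, Algebra.traceForm_apply, Algebra.traceForm_apply, htr, map_mul,
        hbL])
  let C : FractionalIdeal B⁰ L := FractionalIdeal.dual A K 1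
  have hmemC : ∀ z : L, z ∈ C ↔ ∀ y : B, Algebra.trace K L (z * algebraMap B L y) ∈ (algebraMap A K).range := by
    intro z
    rw [FractionalIdeal.mem_dual (one_ne_zero : (1 : FractionalIdeal B⁰ L) ≠ 0)]
    refine ⟨fun h y => ?_, fun h a ha => ?_⟩
    · simpa [Algebra.traceForm_apply] using h _ ⟨y, trivial, rfl⟩
    · obtain ⟨y, rfl⟩ := (FractionalIdeal.mem_one_iff _).1 ha
      simpa [Algebra.traceForm_apply] using h y
  -- `Φ` maps onto the inverse different
  have hval : ∀ f y, Algebra.trace K L (Φ f * algebraMap B L y) = algebraMap A K (f y) := by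
    intro f y
    have h1 : ((Algebra.trace K L).restrictScalars A).comp
        ((LinearMap.mulLeft A (Φ f)).comp (IsScalarTower.toAlgHom A B L).toLinearMap) =
        (Algebra.linearMap A K).comp f := b.ext fun i => by
      show Algebra.trace K L (Φ f * algebraMap B L (b i)) = algebraMap A K (f (b i))
      rw [← hbL, ← hrepr f i, Module.Basis.traceDual_repr_apply, Algebra.traceForm_apply]
    exact LinearMap.congr_fun h1 y
  have hΦC : ∀ f, Φ f ∈ C := fun f => (hmemC _).2 fun y => ⟨_, (hval f y).symm⟩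
  have hCΦ : ∀ z ∈ C, ∃ f, Φ f = z := by
    intro z hz
    choose c hc using (hmemC z).1 hz
    refine ⟨b.constr A fun i => c (b i), bd.repr.injective (Finsupp.ext fun i => ?_)⟩
    rw [hrepr, Module.Basis.constr_basis, hc, Module.Basis.traceDual_repr_apply, Algebra.traceForm_apply, hbL]
  refine ⟨fun x y h => hinjB (by rw [← hself, h, hself]), ?_⟩
  have hC0 : C ≠ 0 := FractionalIdeal.dual_ne_zero A K (one_ne_zero : (1 : FractionalIdeal B⁰ L) ≠ 0)
  have h1C : (1 : FractionalIdeal B⁰ L) ≤ C := FractionalIdeal.one_le_dual_one A K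
  obtain ⟨z, hz⟩ := IsDedekindDomain.exists_add_spanSingleton_mul_eq h1C one_ne_zero
    (one_ne_zero : (1 : FractionalIdeal B⁰ L) ≠ 0)
  rw [mul_one] at hz
  have hzC : z ∈ C := hz.le (Submodule.mem_sup_right (FractionalIdeal.mem_spanSingleton_self _ z))
  obtain ⟨g, hg⟩ := hCΦ z hzC
  have hgr : ∀ r : B, Φ (g ∘ₗ LinearMap.mulLeft A r) = algebraMap B L r * z := fun r =>
    bd.repr.injective (Finsupp.ext fun i => by
      rw [hrepr, Module.Basis.traceDual_repr_apply, Algebra.traceForm_apply, LinearMap.comp_apply,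
        LinearMap.mulLeft_apply, ← hval g (r * b i), hg, (algebraMap B L).map_mul, hbL, mul_left_comm, mul_assoc])
  refine ⟨g, fun f => ?_, fun r => ?_⟩
  · have h2 : Φ f ∈ ((1 + FractionalIdeal.spanSingleton B⁰ z : FractionalIdeal B⁰ L) : Submodule B L) :=
      hz.ge (hΦC f)
    rw [FractionalIdeal.coe_add, Submodule.add_eq_sup] at h2
    obtain ⟨u, hu, v, hv, huv⟩ := Submodule.mem_sup.1 h2
    obtain ⟨s, rfl⟩ := (FractionalIdeal.mem_one_iff _).1 hu
    obtain ⟨r, rfl⟩ := (FractionalIdeal.mem_spanSingleton _).1 hv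
    refine ⟨r, s, hΦ ?_⟩
    rw [map_add, hself, hgr, ← huv, Algebra.smul_def]
  · have hD : (differentIdeal A B : FractionalIdeal B⁰ L) = C⁻¹ := coeIdeal_differentIdeal A K L B
    constructor
    · rintro ⟨s, hs⟩
      have hrz : algebraMap B L r * z = algebraMap B L s := by rw [← hgr, ← hs, hself]
      suffices algebraMap B L r ∈ (differentIdeal A B : FractionalIdeal B⁰ L) by
        obtain ⟨r', hr', e⟩ := (FractionalIdeal.mem_coeIdeal _).1 this
        exact hinjB e ▸ hr'
      rw [hD, FractionalIdeal.mem_inv_iff hC0]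
      intro c hc
      have hc' : c ∈ ((1 + FractionalIdeal.spanSingleton B⁰ z : FractionalIdeal B⁰ L) : Submodule B L) :=
        hz.ge hc
      rw [FractionalIdeal.coe_add, Submodule.add_eq_sup] at hc'
      obtain ⟨u, hu, v, hv, rfl⟩ := Submodule.mem_sup.1 hc'
      obtain ⟨a, rfl⟩ := (FractionalIdeal.mem_one_iff _).1 hu
      obtain ⟨a', rfl⟩ := (FractionalIdeal.mem_spanSingleton _).1 hv
      refine (FractionalIdeal.mem_one_iff _).2 ⟨r * a + a' * s, ?_⟩
      rw [map_add, map_mul, map_mul, ← hrz, Algebra.smul_def]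
      ring
    · intro hr
      have h3 : algebraMap B L r ∈ C⁻¹ := hD ▸ (FractionalIdeal.mem_coeIdeal _).2 ⟨r, hr, rfl⟩
      obtain ⟨s, hs⟩ := (FractionalIdeal.mem_one_iff _).1 ((FractionalIdeal.mem_inv_iff hC0).1 h3 z hzC)
      exact ⟨s, hΦ (by rw [hself, hgr, hs])⟩

end

section
variable (k : Type u) [Field k] {B : Type u} [CommRing B] [IsDedekindDomain B] [Algebra k B]

/-- The dimension of a quotient of a Dedekind domain. -/
theorem finrank_quotient (hfin : ∀ P : Ideal B, P.IsMaximal → Module.Finite k (B ⧸ P)) (I : Ideal B) (hI : I ≠ ⊥) :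
    Module.Finite k (B ⧸ I) ∧
      Module.finrank k (B ⧸ I) = ((normalizedFactors I).map fun P => Module.finrank k (B ⧸ P)).sum := by
  induction I using UniqueFactorizationMonoid.induction_on_prime with
  | h₁ => exact absurd rfl hI
  | h₂ I hu =>
    obtain rfl : I = ⊤ := Ideal.isUnit_iff.1 hu
    haveI : Subsingleton (B ⧸ (⊤ : Ideal B)) := Ideal.Quotient.subsingleton_iff.2 rfl
    refine ⟨inferInstance, ?_⟩
    rw [Module.finrank_zero_of_subsingleton,
      show normalizedFactors (⊤ : Ideal B) = 0 from Ideal.one_eq_top (R := B) ▸ normalizedFactors_one,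
      Multiset.map_zero, Multiset.sum_zero]
  | h₃ J P hJ hP ih =>
    obtain ⟨ihf, ihe⟩ := ih hJ
    haveI := ihf
    haveI hPm : P.IsMaximal := (Ideal.isPrime_of_prime hP).isMaximal hP.ne_zero
    haveI := hfin P hPm
    rw [normalizedFactors_mul hP.ne_zero hJ, normalizedFactors_irreducible hP.irreducible, normalize_eq,
      Multiset.singleton_add, Multiset.map_cons, Multiset.sum_cons, ← ihe]
    have hlt : P * J < J := lt_of_le_of_ne Ideal.mul_le_right fun h => hP.not_isUnit (Ideal.isUnit_iff.2 (by
      have := (mul_eq_right₀ hJ).1 h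
      rw [this, Ideal.one_eq_top]))
    obtain ⟨x, hxJ, hx⟩ := SetLike.exists_of_lt hlt
    have hle : P * J ≤ J := Ideal.mul_le_right
    let m : B →ₗ[k] B ⧸ (P * J) :=
      (Submodule.mkQ (P * J)).restrictScalars k ∘ₗ LinearMap.mulRight k x
    have hker : (P.restrictScalars k) ≤ LinearMap.ker m := fun r hr => by
      show Submodule.Quotient.mk (r * x) = 0
      rw [Submodule.Quotient.mk_eq_zero]
      exact Ideal.mul_mem_mul hr hxJ
    let ι : (B ⧸ P) →ₗ[k] B ⧸ (P * J) := Submodule.liftQ (P.restrictScalars k) m hker ∘ₗ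
      (Submodule.Quotient.restrictScalarsEquiv k P).symm.toLinearMap
    have hιmk : ∀ r, ι (Ideal.Quotient.mk P r) = Ideal.Quotient.mk (P * J) (r * x) := fun r => rfl
    have hι : Function.Injective ι := by
      rw [injective_iff_map_eq_zero]
      intro t ht
      obtain ⟨r, rfl⟩ := Ideal.Quotient.mk_surjective t
      rw [hιmk, Ideal.Quotient.eq_zero_iff_mem] at ht
      rw [Ideal.Quotient.eq_zero_iff_mem]
      by_contra hr
      obtain ⟨a, p, hp, hap⟩ := hPm.exists_inv hr
      refine hx ?_
      have : x = a * (r * x) + p * x := by rw [← mul_assoc, ← add_mul, hap, one_mul]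
      rw [this]
      exact add_mem (Ideal.mul_mem_left _ a ht) (Ideal.mul_mem_mul hp hxJ)
    let q : (B ⧸ (P * J)) →ₗ[k] B ⧸ J := (Ideal.Quotient.factorₐ k hle).toLinearMap
    have hq : Function.Surjective q := Ideal.Quotient.factor_surjective hle
    have hsup : J ≤ Ideal.span {x} ⊔ P * J := by
      obtain ⟨K', hK'⟩ : J ∣ Ideal.span {x} ⊔ P * J :=
        Ideal.dvd_iff_le.2 (sup_le (by simpa [Ideal.span_le] using hxJ) Ideal.mul_le_right)
      have hPK : P ≤ K' := by
        have : K' ∣ P := by
          have h1 : J * K' ∣ J * P := by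
            rw [← hK', mul_comm J P]
            exact Ideal.dvd_iff_le.2 le_sup_right
          exact (mul_dvd_mul_iff_left hJ).1 h1
        exact Ideal.dvd_iff_le.1 this
      rcases eq_or_ne K' ⊤ with h | h
      · rw [hK', h, ← Ideal.one_eq_top, mul_one]
      · exfalso
        obtain rfl := hPm.eq_of_le h hPK
        refine hx ?_
        rw [mul_comm P J, ← hK']
        exact Submodule.mem_sup_left (Ideal.mem_span_singleton_self x)
    have hex : Function.Exact ι q := by
      intro t
      obtain ⟨r, rfl⟩ := Ideal.Quotient.mk_surjective t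
      show Ideal.Quotient.mk J r = 0 ↔ _
      rw [Ideal.Quotient.eq_zero_iff_mem]
      constructor
      · intro hr
        obtain ⟨y, hy, z, hz, rfl⟩ := Submodule.mem_sup.1 (hsup hr)
        obtain ⟨c, rfl⟩ := Ideal.mem_span_singleton'.1 hy
        refine ⟨Ideal.Quotient.mk P c, ?_⟩
        rw [hιmk, Ideal.Quotient.eq, sub_add_cancel_left]
        exact neg_mem hz
      · rintro ⟨s, hs⟩
        obtain ⟨c, rfl⟩ := Ideal.Quotient.mk_surjective s
        rw [hιmk, Ideal.Quotient.eq] at hs
        have h2 := sub_mem (Ideal.mul_mem_left J c hxJ) (Ideal.mul_le_right (hs : c * x - r ∈ P * J))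
        simpa using h2
    haveI : Module.Finite k (B ⧸ (P * J)) := by
      haveI : Module.Finite k (_ ⧸ LinearMap.range ι) := Module.Finite.equiv ((Submodule.quotEquivOfEq _ _ hex.linearMap_ker_eq.symm).trans
        (q.quotKerEquivOfSurjective hq)).symm
      exact Module.Finite.of_submodule_quotient (LinearMap.range ι)
    refine ⟨inferInstance, ?_⟩
    rw [← LinearMap.finrank_range_add_finrank_ker q, LinearMap.range_eq_top.2 hq, finrank_top, add_comm,
      hex.linearMap_ker_eq, LinearMap.finrank_range_of_inj hι]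

theorem finrank_quotient_eq_sum (hfin : ∀ P : Ideal B, P.IsMaximal → Module.Finite k (B ⧸ P))
    (I : Ideal B) (hI : I ≠ ⊥) [DecidableEq (Ideal B)] :
    Module.finrank k (B ⧸ I) = ∑ P ∈ (normalizedFactors I).toFinset,
      (normalizedFactors I).count P * Module.finrank k (B ⧸ P) := by
  rw [(finrank_quotient k hfin I hI).2, Finset.sum_multiset_map_count]
  exact Finset.sum_congr rfl fun P _ => smul_eq_mul _ _

end

section
variable {A B : Type u} [CommRing A] [IsDomain A] [IsDedekindDomain A]
  [CommRing B] [IsDomain B] [IsDedekindDomain B] [Algebra A B] [Module.Finite A B]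
  [Module.IsTorsionFree A B] [Algebra.IsSeparable (FractionRing A) (FractionRing B)]

attribute [local instance] Ideal.Quotient.field

/-- The exponent of the different at a prime. -/
theorem count_differentIdeal [DecidableEq (Ideal B)] {p : Ideal A} [p.IsMaximal] (hp : p ≠ ⊥) (P : Ideal B) [P.IsMaximal]
    [P.LiesOver p] :
    P.ramificationIdx A - 1 ≤ (normalizedFactors (differentIdeal A B)).count P ∧
      ((normalizedFactors (differentIdeal A B)).count P = P.ramificationIdx A - 1 ↔
        Algebra.IsSeparable (A ⧸ p) (B ⧸ P) ∧ ((P.ramificationIdx A : ℕ) : A ⧸ p) ≠ 0) := by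
  classical
  have hp' : p.map (algebraMap A B) ≠ ⊥ := (Ideal.map_eq_bot_iff_of_injective
    (FaithfulSMul.algebraMap_injective A B)).not.mpr hp
  have hPbot : P ≠ ⊥ := by
    intro h
    have h2 : p = P.under A := Ideal.LiesOver.over
    refine hp ?_
    rw [h2, h, Ideal.under, Ideal.comap_bot_of_injective _ (FaithfulSMul.algebraMap_injective A B)]
  set e := P.ramificationIdx A with he_def
  have hDne : differentIdeal A B ≠ ⊥ := differentIdeal_ne_bot
  have hPp : Prime P := Ideal.prime_of_isPrime hPbot inferInstance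
  have hdvd : ∀ n, P ^ n ∣ differentIdeal A B ↔ n ≤ (normalizedFactors (differentIdeal A B)).count P := fun n => by
    rw [dvd_iff_normalizedFactors_le_normalizedFactors (pow_ne_zero n hPp.ne_zero) hDne, normalizedFactors_pow,
      normalizedFactors_irreducible hPp.irreducible, normalize_eq, Multiset.nsmul_singleton,
      Multiset.le_count_iff_replicate_le]
  obtain ⟨Q, h₁, h₂⟩ := Ideal.eq_prime_pow_mul_coprime hp' P
  rw [← Ideal.IsDedekindDomain.ramificationIdx_eq_normalizedFactors_count _ _ hp', ← he_def] at h₂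
  have hepos : 1 ≤ e := Ideal.ramificationIdx_pos P A
  have hlow : P ^ (e - 1) ∣ differentIdeal A B := pow_sub_one_dvd_differentIdeal A P e hp ⟨Q, h₂⟩
  refine ⟨(hdvd _).1 hlow, ?_⟩
  suffices key : P ^ e ∣ differentIdeal A B ↔
      ¬ (Algebra.IsSeparable (A ⧸ p) (B ⧸ P) ∧ ((e : ℕ) : A ⧸ p) ≠ 0) by
    rw [hdvd] at key
    have := (hdvd _).1 hlow
    by_cases hc : Algebra.IsSeparable (A ⧸ p) (B ⧸ P) ∧ ((e : ℕ) : A ⧸ p) ≠ 0
    · have h3 := key.not.2 (not_not.2 hc)
      exact iff_of_true (by omega) hc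
    · have h3 := key.2 hc
      exact iff_of_false (by omega) hc
  have hco : IsCoprime (P ^ e) Q := (Ideal.isCoprime_iff_sup_eq.2 h₁).pow_left
  have hle1 : p ≤ (P ^ e).comap (algebraMap A B) :=
    Ideal.map_le_iff_le_comap.1 (h₂.le.trans Ideal.mul_le_left)
  have hleQ : p ≤ Q.comap (algebraMap A B) := Ideal.map_le_iff_le_comap.1 (h₂.le.trans Ideal.mul_le_right)
  letI : Algebra (A ⧸ p) (B ⧸ P ^ e) := Ideal.Quotient.algebraQuotientOfLEComap hle1
  letI : Algebra (A ⧸ p) (B ⧸ Q) := Ideal.Quotient.algebraQuotientOfLEComap hleQ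
  haveI : IsScalarTower A (A ⧸ p) (B ⧸ P ^ e) := .of_algebraMap_eq' rfl
  haveI : IsScalarTower A (A ⧸ p) (B ⧸ Q) := .of_algebraMap_eq' rfl
  haveI : Module.Finite (A ⧸ p) (B ⧸ P ^ e) := .of_restrictScalars_finite A _ _
  haveI : Module.Finite (A ⧸ p) (B ⧸ Q) := .of_restrictScalars_finite A _ _
  let E : (B ⧸ p.map (algebraMap A B)) ≃ₐ[A ⧸ p] ((B ⧸ P ^ e) × B ⧸ Q) :=
    { __ := (Ideal.quotEquivOfEq h₂).trans (Ideal.quotientMulEquivQuotientProd (P ^ e) Q hco),
      commutes' := Quotient.ind fun _ ↦ rfl }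
  have htr : ∀ x ∈ Q, Ideal.Quotient.mk p (Algebra.intTrace A B x) =
      e • Algebra.trace (A ⧸ p) (B ⧸ P) (Ideal.Quotient.mk P x) := fun x hx => by
    have hx' : (E (Ideal.Quotient.mk _ x)).2 = 0 := by
      simpa [E, Ideal.Quotient.eq_zero_iff_mem] using hx
    have hx1 : (E (Ideal.Quotient.mk _ x)).1 = Ideal.Quotient.mk _ x := rfl
    rw [← Algebra.trace_quotient_eq_of_isDedekindDomain, ← Algebra.trace_eq_of_algEquiv E,
      Algebra.trace_prod_apply, hx', map_zero, add_zero, hx1,
      CAlgH3.DedekindTrace.trace_pow p hPbot (by omega : e ≠ 0)]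
  constructor
  · rintro hD ⟨hsep, hne⟩
    haveI := hsep
    obtain ⟨x₀, hx₀⟩ : ∃ x, Algebra.trace (A ⧸ p) (B ⧸ P) x ≠ 0 := by
      simpa [LinearMap.ext_iff] using Algebra.trace_ne_zero (A ⧸ p) (B ⧸ P)
    obtain ⟨x, rfl⟩ := Ideal.Quotient.mk_surjective x₀
    obtain ⟨a, ha, b, hb, hab⟩ := Submodule.mem_sup.1 (h₁.ge (Submodule.mem_top (x := x)))
    have hbx : Ideal.Quotient.mk P b = Ideal.Quotient.mk P x := by
      rw [← hab, map_add, Ideal.Quotient.eq_zero_iff_mem.2 ha, zero_add]
    refine not_dvd_differentIdeal_of_intTrace_not_mem A (P ^ e) Q h₂.symm b hb ?_ hD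
    rw [← Ideal.Quotient.eq_zero_iff_mem, htr b hb, hbx, nsmul_eq_mul]
    exact mul_ne_zero hne hx₀
  · intro hnt
    have hzero : ∀ x ∈ Q, Algebra.intTrace A B x ∈ p := fun x hx => by
      rw [← Ideal.Quotient.eq_zero_iff_mem, htr x hx, nsmul_eq_mul]
      by_cases hs : Algebra.IsSeparable (A ⧸ p) (B ⧸ P)
      · rw [show ((e : ℕ) : A ⧸ p) = 0 from not_not.1 fun h => hnt ⟨hs, h⟩, zero_mul]
      · rw [Algebra.trace_eq_zero_of_not_isSeparable hs, LinearMap.zero_apply, mul_zero]
    let K := FractionRing A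
    let L := FractionRing B
    haveI : IsLocalization (Algebra.algebraMapSubmonoid B A⁰) L := IsIntegralClosure.isLocalization _ K _ _
    haveI : FiniteDimensional K L := .of_isLocalization A B A⁰
    have hPe : P ^ e ≠ ⊥ := pow_ne_zero e hPbot
    have habot : Q ≠ ⊥ := fun h => hp' (by rw [h₂, h, Ideal.mul_bot])
    have hP : ((P ^ e : Ideal B) : FractionalIdeal B⁰ L)⁻¹ = Q / p.map (algebraMap A B) := by
      apply inv_involutive.injective
      simp only [h₂, FractionalIdeal.coeIdeal_mul, inv_div, mul_div_assoc]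
      rw [div_self (by simpa using habot), mul_one, inv_inv]
    rw [Ideal.dvd_iff_le, differentialIdeal_le_iff (K := K) (L := L) hPe, hP,
      Submodule.map_le_iff_le_comap]
    intro x hx
    rw [Submodule.restrictScalars_mem, FractionalIdeal.mem_coe,
      FractionalIdeal.mem_div_iff_of_ne_zero (by simpa using hp')] at hx
    rw [Submodule.mem_comap, LinearMap.coe_restrictScalars, ← FractionalIdeal.coe_one,
      ← div_self (G₀ := FractionalIdeal A⁰ K) (a := p) (by simpa using hp),
      FractionalIdeal.mem_coe, FractionalIdeal.mem_div_iff_of_ne_zero (by simpa using hp)]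
    simp only [FractionalIdeal.mem_coeIdeal, forall_exists_index, and_imp,
      forall_apply_eq_imp_iff₂] at hx
    intro y hy'
    obtain ⟨y, hy, rfl : algebraMap A K _ = _⟩ := (FractionalIdeal.mem_coeIdeal _).mp hy'
    obtain ⟨z, hz, hz'⟩ := hx _ (Ideal.mem_map_of_mem _ hy)
    have : Algebra.trace K L (algebraMap B L z) ∈ (p : FractionalIdeal A⁰ K) := by
      rw [← Algebra.algebraMap_intTrace (A := A)]
      exact ⟨Algebra.intTrace A B z, hzero z hz, rfl⟩
    rwa [mul_comm, ← smul_eq_mul, ← map_smul, Algebra.smul_def, mul_comm,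
      ← IsScalarTower.algebraMap_apply, IsScalarTower.algebraMap_apply A B L, ← hz']

end

end Groth.Agent.TameHurwitz24
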