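import Groth.Agent.TameHurwitz24.Affine
import Groth.Agent.CurveRR24.Point
import Groth.Agent.FlatMorWeightLen.Field
import Mathlib.RingTheory.RamificationInertia.Ramification

/-!
# Closed points in affine charts of a finite morphism of curves
-/

set_option autoImplicit false
set_option linter.style.haveILetI false
set_option backward.isDefEq.respectTransparency.types false
set_option maxHeartbeats 1000000

universe u

open CategoryTheory AlgebraicGeometry Opposite TopologicalSpace IsLocalRing
open Groth.Agent.Coherent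

noncomputable section

namespace Groth.Agent.TameHurwitz24

theorem length_quot_congr {R S : Type u} [CommRing R] [CommRing S] (e : R ≃+* S) {I : Ideal R} {J : Ideal S}
    (h : J = I.map e.toRingHom) : Module.length R (R ⧸ I) = Module.length S (S ⧸ J) := by
  rw [Module.length_eq_of_surjective (R := R ⧸ I) (S := R) (M := R ⧸ I) Ideal.Quotient.mk_surjective,
    Module.length_eq_of_surjective (R := S ⧸ J) (S := S) (M := S ⧸ J) Ideal.Quotient.mk_surjective]
  exact FlatMorWeightLen.length_self_congr (Ideal.quotientEquiv I J e (by exact h))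

/-- The ramification index can be computed in the local rings. -/
theorem ramificationIdx_local {A B R S : Type u} [CommRing A] [CommRing B] [CommRing R] [CommRing S]
    [Algebra A B] [Algebra A R] [Algebra B S] [Algebra R S] [IsLocalRing R] [IsLocalRing S]
    [Algebra A S] [IsScalarTower A B S] [IsScalarTower A R S]
    (p : Ideal A) [p.IsMaximal] (P : Ideal B) [P.IsMaximal] [P.LiesOver p]
    [IsLocalization.AtPrime R p] [IsLocalization.AtPrime S P] [IsLocalHom (algebraMap R S)] :
    (maximalIdeal S).ramificationIdx R = P.ramificationIdx A := by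
  rw [Ideal.ramificationIdx_def, Ideal.ramificationIdx_def]
  congr 1
  let eS : S ≃+* Localization.AtPrime (maximalIdeal S) :=
    (IsLocalization.atUnits S (maximalIdeal S).primeCompl fun x hx =>
      not_not.1 fun h => hx ((IsLocalRing.mem_maximalIdeal x).2 h)).toRingEquiv
  let eP : Localization.AtPrime P ≃+* S := (IsLocalization.algEquiv P.primeCompl _ S).toRingEquiv
  have hu : (maximalIdeal S).under R = maximalIdeal R := ((local_hom_TFAE (algebraMap R S)).out 0 4).1 ‹_›
  rw [hu, ← Ideal.LiesOver.over (p := p) (P := P)]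
  refine (length_quot_congr (eP.trans eS) ?_).symm
  rw [← IsLocalization.AtPrime.map_eq_maximalIdeal p R, Ideal.map_map, Ideal.map_map]
  congr 1
  refine RingHom.ext fun a => ?_
  show algebraMap R (Localization.AtPrime (maximalIdeal S)) (algebraMap A R a) =
    eS (eP (algebraMap A (Localization.AtPrime P) a))
  rw [IsScalarTower.algebraMap_apply A B (Localization.AtPrime P),
    show eP (algebraMap B (Localization.AtPrime P) (algebraMap A B a)) = algebraMap B S (algebraMap A B a) from
      AlgEquiv.commutes _ _,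
    ← IsScalarTower.algebraMap_apply A B S, IsScalarTower.algebraMap_apply A R S,
    IsScalarTower.algebraMap_apply R S (Localization.AtPrime (maximalIdeal S))]
  rfl

variable {X Y : Scheme.{u}} (f : X ⟶ Y) [IsAffineHom f] {U : Y.Opens} (hU : IsAffineOpen U) (x : (f ⁻¹ᵁ U : X.Opens))

/-- The prime of a point. -/
abbrev primeX : Ideal Γ(X, f ⁻¹ᵁ U) := ((hU.preimage f).primeIdealOf x).asIdeal

/-- The prime of the image of a point. -/
abbrev primeY : Ideal Γ(Y, U) := (hU.primeIdealOf ⟨f x.1, x.2⟩).asIdeal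

theorem liesOver_primeX :
    letI := (f.app U).hom.toAlgebra
    (primeX f hU x).LiesOver (primeY f hU x) := by
  letI := (f.app U).hom.toAlgebra
  constructor
  have h := congrArg PrimeSpectrum.asIdeal
    (IsAffineOpen.comap_primeIdealOf_appLE U hU (f ⁻¹ᵁ U) (hU.preimage f) le_rfl x.2 (f := f) (x := x.1))
  rw [← Scheme.Hom.app_eq_appLE] at h
  exact h.symm

theorem germ_app (a : Γ(Y, U)) :
    (f.stalkMap x.1).hom (Y.presheaf.germ U (f x.1) x.2 a) = X.presheaf.germ (f ⁻¹ᵁ U) x.1 x.2 ((f.app U).hom a) :=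
  Scheme.Hom.germ_stalkMap_apply f U x.1 x.2 a

/-- The ramification index at a closed point. -/
theorem ramificationIdx_point [(primeX f hU x).IsMaximal] [(primeY f hU x).IsMaximal] :
    (letI := (f.stalkMap x.1).hom.toAlgebra;
      (maximalIdeal (X.presheaf.stalk x.1)).ramificationIdx (Y.presheaf.stalk (f x.1))) =
    (letI := (f.app U).hom.toAlgebra; (primeX f hU x).ramificationIdx Γ(Y, U)) := by
  letI := (f.app U).hom.toAlgebra
  letI := (f.stalkMap x.1).hom.toAlgebra
  letI : Algebra Γ(Y, U) (Y.presheaf.stalk (f x.1)) := (Y.presheaf.germ U (f x.1) x.2).hom.toAlgebra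
  letI : Algebra Γ(X, f ⁻¹ᵁ U) (X.presheaf.stalk x.1) := (X.presheaf.germ (f ⁻¹ᵁ U) x.1 x.2).hom.toAlgebra
  letI : Algebra Γ(Y, U) (X.presheaf.stalk x.1) :=
    ((X.presheaf.germ (f ⁻¹ᵁ U) x.1 x.2).hom.comp (f.app U).hom).toAlgebra
  haveI : IsScalarTower Γ(Y, U) Γ(X, f ⁻¹ᵁ U) (X.presheaf.stalk x.1) := .of_algebraMap_eq fun _ => rfl
  haveI : IsScalarTower Γ(Y, U) (Y.presheaf.stalk (f x.1)) (X.presheaf.stalk x.1) :=
    .of_algebraMap_eq fun a => (germ_app f x a).symm
  haveI : IsLocalization.AtPrime (Y.presheaf.stalk (f x.1)) (primeY f hU x) := hU.isLocalization_stalk ⟨f x.1, x.2⟩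
  haveI : IsLocalization.AtPrime (X.presheaf.stalk x.1) (primeX f hU x) := (hU.preimage f).isLocalization_stalk x
  haveI := liesOver_primeX f hU x
  haveI : IsLocalHom (algebraMap (Y.presheaf.stalk (f x.1)) (X.presheaf.stalk x.1)) :=
    inferInstanceAs (IsLocalHom (f.stalkMap x.1).hom)
  exact ramificationIdx_local (primeY f hU x) (primeX f hU x)

attribute [local instance] Ideal.Quotient.field

/-- Separability and the ramification index in residue fields. -/
theorem tame_point [(primeX f hU x).IsMaximal] [(primeY f hU x).IsMaximal] (n : ℕ) :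
    (letI := (f.residueFieldMap x.1).hom.toAlgebra;
      Algebra.IsSeparable (Y.residueField (f x.1)) (X.residueField x.1) ∧ (n : Y.residueField (f x.1)) ≠ 0) ↔
    (letI := (f.app U).hom.toAlgebra; haveI := liesOver_primeX f hU x;
      Algebra.IsSeparable (Γ(Y, U) ⧸ primeY f hU x) (Γ(X, f ⁻¹ᵁ U) ⧸ primeX f hU x) ∧
        (n : Γ(Y, U) ⧸ primeY f hU x) ≠ 0) := by
  letI := (f.app U).hom.toAlgebra
  haveI := liesOver_primeX f hU x
  letI := (f.residueFieldMap x.1).hom.toAlgebra
  letI : Algebra Γ(Y, U) (Y.presheaf.stalk (f x.1)) := (Y.presheaf.germ U (f x.1) x.2).hom.toAlgebra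
  letI : Algebra Γ(X, f ⁻¹ᵁ U) (X.presheaf.stalk x.1) := (X.presheaf.germ (f ⁻¹ᵁ U) x.1 x.2).hom.toAlgebra
  haveI : IsLocalization.AtPrime (Y.presheaf.stalk (f x.1)) (primeY f hU x) := hU.isLocalization_stalk ⟨f x.1, x.2⟩
  haveI : IsLocalization.AtPrime (X.presheaf.stalk x.1) (primeX f hU x) := (hU.preimage f).isLocalization_stalk x
  let e₁ : Γ(Y, U) ⧸ primeY f hU x ≃+* Y.residueField (f x.1) :=
    IsLocalization.AtPrime.equivQuotMaximalIdeal (primeY f hU x) (Y.presheaf.stalk (f x.1))
  let e₂ : Γ(X, f ⁻¹ᵁ U) ⧸ primeX f hU x ≃+* X.residueField x.1 :=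
    IsLocalization.AtPrime.equivQuotMaximalIdeal (primeX f hU x) (X.presheaf.stalk x.1)
  have he : RingHom.comp (algebraMap (Y.residueField (f x.1)) (X.residueField x.1)) e₁.toRingHom =
      RingHom.comp e₂.toRingHom (algebraMap (Γ(Y, U) ⧸ primeY f hU x) (Γ(X, f ⁻¹ᵁ U) ⧸ primeX f hU x)) := by
    refine Ideal.Quotient.ringHom_ext (RingHom.ext fun a => ?_)
    show (f.residueFieldMap x.1).hom (e₁ (Ideal.Quotient.mk _ a)) = e₂ (Ideal.Quotient.mk _ ((f.app U).hom a))
    simp only [e₁, e₂, IsLocalization.AtPrime.equivQuotMaximalIdeal_apply_mk]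
    show (f.residueFieldMap x.1).hom (Y.residue (f x.1) (Y.presheaf.germ U (f x.1) x.2 a)) =
      X.residue x.1 (X.presheaf.germ (f ⁻¹ᵁ U) x.1 x.2 ((f.app U).hom a))
    rw [← germ_app f x a]
    exact ConcreteCategory.congr_hom (Scheme.residue_residueFieldMap f x.1) _
  refine and_congr (Algebra.IsSeparable.iff_of_equiv_equiv e₁ e₂ he).symm ?_
  rw [← map_natCast e₁, EmbeddingLike.map_ne_zero_iff]

/-- The residue field as a quotient of the chart. -/
theorem finrank_point (k : Type u) [Field k] [X.Over (Spec (CommRingCat.of k))] {V : X.Opens} (hV : IsAffineOpen V)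
    (x : V) [(hV.primeIdealOf x).asIdeal.IsMaximal] [IsProper (X ↘ Spec (CommRingCat.of k))]
    (hx : IsClosed ({x.1} : Set X)) :
    letI : Algebra k Γ(X, V) := ((X.presheaf.map (homOfLE le_top).op).hom.comp (baseHom k X)).toAlgebra
    Module.Finite k (Γ(X, V) ⧸ (hV.primeIdealOf x).asIdeal) ∧
      Module.finrank k (Γ(X, V) ⧸ (hV.primeIdealOf x).asIdeal) =
        (letI := Curv2.resAlgebra k X x.1; Module.finrank k (X.residueField x.1)) := by
  letI : Algebra k Γ(X, V) := ((X.presheaf.map (homOfLE le_top).op).hom.comp (baseHom k X)).toAlgebra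
  letI := Curv2.resAlgebra k X x.1
  haveI := CurveRR24.finite_resField hx k
  letI : Algebra Γ(X, V) (X.presheaf.stalk x.1) := (X.presheaf.germ V x.1 x.2).hom.toAlgebra
  haveI : IsLocalization.AtPrime (X.presheaf.stalk x.1) (hV.primeIdealOf x).asIdeal := hV.isLocalization_stalk x
  let e : Γ(X, V) ⧸ (hV.primeIdealOf x).asIdeal ≃+* X.residueField x.1 :=
    IsLocalization.AtPrime.equivQuotMaximalIdeal (hV.primeIdealOf x).asIdeal (X.presheaf.stalk x.1)
  let l : (Γ(X, V) ⧸ (hV.primeIdealOf x).asIdeal) ≃ₐ[k] X.residueField x.1 := AlgEquiv.ofRingEquiv (f := e) fun c => by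
    show IsLocalization.AtPrime.equivQuotMaximalIdeal (hV.primeIdealOf x).asIdeal (X.presheaf.stalk x.1)
      (Ideal.Quotient.mk _ (X.presheaf.map (homOfLE (le_top : V ≤ ⊤)).op (baseHom k X c))) = _
    rw [IsLocalization.AtPrime.equivQuotMaximalIdeal_apply_mk]
    show X.residue x.1 (X.presheaf.germ V x.1 x.2 (X.presheaf.map (homOfLE le_top).op (baseHom k X c))) = _
    rw [TopCat.Presheaf.germ_res_apply]
    rfl
  exact ⟨Module.Finite.equiv l.toLinearEquiv.symm, l.toLinearEquiv.finrank_eq⟩

end Groth.Agent.TameHurwitz24
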