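import Groth.Agent.TameHurwitz24.Pairing
import Groth.Agent.TameHurwitz24.Points
import Groth.Agent.Hurwitz24.Generic
import Groth.Agent.Split8.Rank
import Groth.Agent.VB5.DualDeg
import Groth.Agent.LocFreeLib.Semilocal
import Groth.Agent.VarietyLib.DetDeg
import Groth.Agent.H0Growth23.GenFinite
import Groth.Agent.CurveRR24.Sky

/-!
# The Hurwitz inequality for normal curves
-/

set_option autoImplicit false
set_option linter.style.haveILetI false
set_option linter.unusedSectionVars false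
set_option backward.isDefEq.respectTransparency.types false
set_option maxHeartbeats 1600000

universe u

open CategoryTheory CategoryTheory.Limits AlgebraicGeometry Opposite TopologicalSpace
open Groth.Agent.Coherent Groth.Agent.PicLib Groth.Agent.AmpleLib Groth.Agent.FinCovLib29
open Groth.Agent.CycLib28.PB.Ops (dual isFinLocFreeOfRank_dual)
open UniqueFactorizationMonoid

noncomputable section

namespace Groth.Agent.TameHurwitz24

theorem good_of_iso {X : Scheme.{u}} (A : RelSpec.QCAlg X) {n : ℕ} {U₀ : X.Opens}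
    (e : A.toModule.restrict U₀.ι ≅ FlatMod.freeMod U₀.toScheme n) : Good A U₀ := by
  classical
  let ψ := e ≪≫ (Props12.freeModIso U₀.toScheme n).symm
  let N := A.toModule
  let v : ∀ W : U₀.toScheme.Opens, ULift.{u} (Fin n) → Γ(N, U₀.ι ''ᵁ W) := fun W i =>
    (N.restrictAppIso U₀.ι W).hom (unitVal (freeInj i ≫ ψ.inv) W)
  refine Good.mono (V := U₀.ι ''ᵁ ⊤) ⟨n, v ⊤, fun V hV => ?_⟩ (Scheme.Opens.ι_image_top U₀).ge
  obtain ⟨W, rfl⟩ : ∃ W : U₀.toScheme.Opens, U₀.ι ''ᵁ W = V := by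
    refine ⟨U₀.ι ⁻¹ᵁ V, ?_⟩
    rw [U₀.ι.image_preimage_eq_opensRange_inf, Scheme.Opens.opensRange_ι, inf_eq_right]
    exact hV.trans (Scheme.Opens.ι_image_top U₀).le
  have hres : ∀ i, resM N hV (v ⊤ i) = v W i := fun i => by
    show resM N hV ((N.restrictAppIso U₀.ι ⊤).hom (unitVal _ ⊤)) = (N.restrictAppIso U₀.ι W).hom (unitVal _ W)
    rw [← resM_unitVal (freeInj i ≫ ψ.inv) (le_top : W ≤ ⊤)]
    rfl
  have h1 := ConcreteCategory.bijective_of_isIso (U₀.ι.appIso W).hom
  have h2 := (freeSectionsEquiv (X := U₀.toScheme) (I := ULift.{u} (Fin n)) W).symm.bijective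
  have h3 := ConcreteCategory.bijective_of_isIso (C := AddCommGrpCat) (ψ.inv.app W)
  have h4 := ConcreteCategory.bijective_of_isIso (N.restrictAppIso U₀.ι W).hom
  have h1' : Function.Bijective (fun c : ULift.{u} (Fin n) → Γ(X, U₀.ι ''ᵁ W) => fun i => (U₀.ι.appIso W).hom (c i)) :=
    Function.Bijective.piMap fun _ => h1
  convert h4.comp (h3.comp (h2.comp h1')) using 1
  funext c
  simp only [Function.comp_apply, hres]
  rw [freeMod_app, map_sum]
  refine Finset.sum_congr rfl fun i _ => ?_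
  refine Eq.trans ?_ (Scheme.Modules.smul_restrictAppIso_hom_apply U₀.ι N W _ _).symm
  congr 1
  show c i = (U₀.ι.appIso W).inv (freeSectionsEquiv W ((freeSectionsEquiv W).symm _) i)
  · rw [LinearEquiv.apply_symm_apply, ← ConcreteCategory.comp_apply, Iso.hom_inv_id]
    rfl
  · exact hres i

section Fraction

variable {X Y : Scheme.{u}} [IsIntegral X] [IsIntegral Y] (f : X ⟶ Y) [IsAffineHom f]
  (e : f (genericPoint X) = genericPoint Y) {U : Y.Opens} (hU : IsAffineOpen U) [hne : Nonempty U]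

include e hne in
theorem nonempty_preimage : Nonempty (f ⁻¹ᵁ U) := by
  obtain ⟨u⟩ := hne
  have hη : genericPoint Y ∈ U := ((genericPoint_spec Y).mem_open_set_iff U.2).2 ⟨u.1, trivial, u.2⟩
  exact ⟨⟨genericPoint X, show f (genericPoint X) ∈ U from e ▸ hη⟩⟩

include e hU hne in
theorem app_injective : Function.Injective (f.app U).hom := by
  obtain ⟨u⟩ := id hne
  have hη : genericPoint Y ∈ U := ((genericPoint_spec Y).mem_open_set_iff U.2).2 ⟨u.1, trivial, u.2⟩
  have hmem : f (genericPoint X) ∈ U := e ▸ hη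
  intro a b h
  have h1 := congrArg (X.presheaf.germ (f ⁻¹ᵁ U) (genericPoint X) hmem) h
  have h2 : Function.Injective (Y.presheaf.germ U (f (genericPoint X)) hmem) :=
    germ_injective_of_isIntegral Y (f (genericPoint X)) hmem
  haveI := Hurwitz24.isDominant_of_generic f e
  refine h2 (CurvesLib24.stalkMap_injective f (genericPoint X) ?_)
  exact (Scheme.Hom.germ_stalkMap_apply f U (genericPoint X) hmem a).trans
    (h1.trans (Scheme.Hom.germ_stalkMap_apply f U (genericPoint X) hmem b).symm)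

include hU in
/-- Transfer to the fraction fields of a chart. -/
theorem fraction_data [IsFinite f]
    (hsep : letI := ((Y.presheaf.stalkSpecializes (specializes_of_eq e) ≫ f.stalkMap (genericPoint X)).hom).toAlgebra
      Algebra.IsSeparable Y.functionField X.functionField)
    (hinj : Function.Injective (f.app U).hom) {N : ℕ}
    (hN : letI := (f.app U).hom.toAlgebra; Module.Free Γ(Y, U) Γ(X, f ⁻¹ᵁ U) ∧ Module.Finite Γ(Y, U) Γ(X, f ⁻¹ᵁ U) ∧
      Module.finrank Γ(Y, U) Γ(X, f ⁻¹ᵁ U) = N) [IsDomain Γ(Y, U)] [IsDomain Γ(X, f ⁻¹ᵁ U)] :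
    (letI := (f.app U).hom.toAlgebra
     letI : FaithfulSMul Γ(Y, U) Γ(X, f ⁻¹ᵁ U) := (faithfulSMul_iff_algebraMap_injective _ _).2 hinj
     letI := FractionRing.liftAlgebra Γ(Y, U) (FractionRing Γ(X, f ⁻¹ᵁ U))
     Algebra.IsSeparable (FractionRing Γ(Y, U)) (FractionRing Γ(X, f ⁻¹ᵁ U))) ∧
    (letI := ((Y.presheaf.stalkSpecializes (specializes_of_eq e) ≫ f.stalkMap (genericPoint X)).hom).toAlgebra
     Module.finrank Y.functionField X.functionField = N) := by
  let φ := (Y.presheaf.stalkSpecializes (specializes_of_eq e) ≫ f.stalkMap (genericPoint X)).hom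
  obtain ⟨u⟩ := id hne
  have hηW : genericPoint Y ∈ U := ((genericPoint_spec Y).mem_open_set_iff U.2).2 ⟨u.1, trivial, u.2⟩
  have hmem : f (genericPoint X) ∈ U := e ▸ hηW
  haveI : Nonempty (f ⁻¹ᵁ U) := ⟨⟨genericPoint X, hmem⟩⟩
  let A := Γ(Y, U)
  let B := Γ(X, f ⁻¹ᵁ U)
  letI : Algebra A B := (f.app U).hom.toAlgebra
  haveI : FaithfulSMul A B := (faithfulSMul_iff_algebraMap_injective _ _).2 hinj
  obtain ⟨hfree, hfin, hrk⟩ := hN
  haveI := hfree
  haveI := hfin
  let K := Y.functionField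
  let L := X.functionField
  let _ : Algebra K L := φ.toAlgebra
  let _ : Algebra A K := (Y.presheaf.germ U (genericPoint Y) hηW).hom.toAlgebra
  let _ : Algebra B L := (X.presheaf.germ (f ⁻¹ᵁ U) (genericPoint X) hmem).hom.toAlgebra
  let _ : Algebra A L := ((algebraMap B L).comp (algebraMap A B)).toAlgebra
  haveI : IsScalarTower A B L := IsScalarTower.of_algebraMap_eq fun _ => rfl
  haveI : IsScalarTower A K L := IsScalarTower.of_algebraMap_eq fun r => by
    show X.presheaf.germ (f ⁻¹ᵁ U) (genericPoint X) hmem ((f.app U).hom r) =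
      (f.stalkMap (genericPoint X)).hom
        ((Y.presheaf.stalkSpecializes (specializes_of_eq e)).hom (Y.presheaf.germ U (genericPoint Y) hηW r))
    refine (Scheme.Hom.germ_stalkMap_apply f U (genericPoint X) hmem r).symm.trans ?_
    congr 1
    exact (TopCat.Presheaf.germ_stalkSpecializes_apply Y.presheaf hηW (specializes_of_eq e) r).symm
  haveI : IsFractionRing A K := functionField_isFractionRing_of_isAffineOpen Y U hU
  haveI : IsFractionRing B L := functionField_isFractionRing_of_isAffineOpen X (f ⁻¹ᵁ U) (hU.preimage f)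
  haveI : Algebra.IsAlgebraic A B := Algebra.IsAlgebraic.of_finite A B
  refine ⟨?_, (IsFractionRing.finrank_eq A K B L).trans hrk⟩
  letI := FractionRing.liftAlgebra A (FractionRing B)
  haveI : Algebra.IsSeparable K L := hsep
  refine Algebra.IsSeparable.of_equiv_equiv (FractionRing.algEquiv A K).symm.toRingEquiv
    (FractionRing.algEquiv B L).symm.toRingEquiv ?_
  apply IsLocalization.ringHom_ext (nonZeroDivisors A)
  ext a
  simp only [RingHom.coe_comp, RingHom.coe_coe, AlgEquiv.coe_ringEquiv, Function.comp_apply, AlgEquiv.commutes,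
    ← IsScalarTower.algebraMap_apply]
  rw [IsScalarTower.algebraMap_apply A B L, AlgEquiv.commutes]
  exact (IsScalarTower.algebraMap_apply A (FractionRing A) (FractionRing B) a).symm.trans
    (IsScalarTower.algebraMap_apply A B (FractionRing B) a)

end Fraction

section Curve

variable (k : Type u) [Field k] {X Y : Scheme.{u}} [X.Over (Spec (CommRingCat.of k))] [Y.Over (Spec (CommRingCat.of k))]
  [IsProper (X ↘ Spec (CommRingCat.of k))] [IsProper (Y ↘ Spec (CommRingCat.of k))] [IsIntegral X] [IsIntegral Y]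
  (hdX : topologicalKrullDim X = 1) (hdY : topologicalKrullDim Y = 1)
  (hnX : ∀ x : X, IsIntegrallyClosed (X.presheaf.stalk x)) (hnY : ∀ y : Y, IsIntegrallyClosed (Y.presheaf.stalk y))
  (f : X ⟶ Y) [IsFinite f] (hf : f ≫ (Y ↘ Spec (CommRingCat.of k)) = X ↘ Spec (CommRingCat.of k))
  (e : f (genericPoint X) = genericPoint Y)
  (hsep : letI := ((Y.presheaf.stalkSpecializes (specializes_of_eq e) ≫ f.stalkMap (genericPoint X)).hom).toAlgebra
    Algebra.IsSeparable Y.functionField X.functionField)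

/-- The ramification index at a point. -/
abbrev ramAt (x : X) : ℕ :=
  letI := (f.stalkMap x).hom.toAlgebra
  Ideal.ramificationIdx (IsLocalRing.maximalIdeal (X.presheaf.stalk x)) (Y.presheaf.stalk (f x))

/-- Tameness at a point. -/
def TameAt (x : X) : Prop :=
  letI := (f.residueFieldMap x).hom.toAlgebra
  Algebra.IsSeparable (Y.residueField (f x)) (X.residueField x) ∧ ((ramAt f x : ℕ) : Y.residueField (f x)) ≠ 0

/-- The residue degree over `k`. -/
abbrev degAt (x : X) : ℕ := letI := Curv2.resAlgebra k X x; Module.finrank k (X.residueField x)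

include k hdX in
theorem ne_bot_of_isMaximal {V : X.Opens} (hV : IsAffineOpen V) [hne : Nonempty V] {P : Ideal Γ(X, V)}
    (hP : P.IsMaximal) : P ≠ ⊥ := by
  haveI : JacobsonSpace X := LocallyOfFiniteType.jacobsonSpace (X ↘ Spec (CommRingCat.of k))
  obtain ⟨u⟩ := id hne
  obtain ⟨x, hxV, hx⟩ := nonempty_inter_closedPoints (Z := (V : Set X)) ⟨u.1, u.2⟩ V.2.isLocallyClosed
  have hηV : genericPoint X ∈ V := ((genericPoint_spec X).mem_open_set_iff V.2).2 ⟨u.1, trivial, u.2⟩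
  intro hb
  subst hb
  have h1 : ∀ w : V, (hV.primeIdealOf w).asIdeal = ⊥ := fun w =>
    (hP.eq_of_le (hV.primeIdealOf w).isPrime.ne_top bot_le).symm
  have h2 : hV.primeIdealOf ⟨x, hxV⟩ = hV.primeIdealOf ⟨genericPoint X, hηV⟩ :=
    PrimeSpectrum.ext ((h1 _).trans (h1 _).symm)
  have h3 : x = genericPoint X :=
    (hV.fromSpec_primeIdealOf ⟨x, hxV⟩).symm.trans ((congrArg hV.fromSpec h2).trans (hV.fromSpec_primeIdealOf _))
  exact CurvesLib24.not_isClosed_genericPoint hdX (h3 ▸ mem_closedPoints_iff.1 hx)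

include hdX hdY hnX hnY hf e hsep in
/-- On a good affine chart. -/
theorem chart (hA : FlatMod.IsFinLocFree (algP f).toModule) {U : Y.Opens} (hU : IsAffineOpen U) (hne : Nonempty U)
    (hgood : Good (algP f) U) :
    Function.Injective ((traceMap f hA).app U) ∧
    (∃ d : Γ(Y, U), d ≠ 0 ∧ ∀ z : Γ(disc f hA, U), d • z = 0) ∧
    ∃ (S : Finset X) (cnt : X → ℕ), (∀ x ∈ S, f x ∈ U ∧ IsClosed ({x} : Set X)) ∧
      (∀ x, f x ∈ U → IsClosed ({x} : Set X) → x ∉ S → ramAt f x - 1 = 0 ∧ TameAt f x) ∧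
      (∀ x ∈ S, 0 < degAt k x ∧ ramAt f x - 1 ≤ cnt x ∧ (cnt x = ramAt f x - 1 ↔ TameAt f x)) ∧
      (letI := Module.compHom Γ(disc f hA, U) ((Y.presheaf.map (homOfLE (le_top : U ≤ ⊤)).op).hom.comp (baseHom k Y))
       Module.finrank k Γ(disc f hA, U) = ∑ x ∈ S, cnt x * degAt k x) := by
  classical
  haveI := EulerLib.isNoetherian_of_proper k (X := X)
  haveI := EulerLib.isNoetherian_of_proper k (X := Y)
  haveI := hne
  haveI := nonempty_preimage f e (U := U)
  let V := f ⁻¹ᵁ U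
  have hV : IsAffineOpen V := hU.preimage f
  haveI : IsDedekindDomain Γ(Y, U) := isDedekindDomain_sections Y hdY.le hnY hU
  haveI : IsDedekindDomain Γ(X, f ⁻¹ᵁ U) := isDedekindDomain_sections X hdX.le hnX hV
  have hinj := app_injective f e hU
  obtain ⟨hfree, hfin⟩ := good_iff_affine_free (algP f) hgood
  obtain ⟨hsepF, -⟩ := fraction_data f e hU hsep hinj ⟨hfree, hfin, rfl⟩
  obtain ⟨hTi, ψ, hψs, hψl, hψk⟩ := exists_disc_sections f hA hU hgood hinj hsepF
  letI alg : Algebra Γ(Y, U) Γ(X, f ⁻¹ᵁ U) := (f.app U).hom.toAlgebra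
  haveI : FaithfulSMul Γ(Y, U) Γ(X, f ⁻¹ᵁ U) := (faithfulSMul_iff_algebraMap_injective _ _).2 hinj
  haveI : Module.IsTorsionFree Γ(Y, U) Γ(X, f ⁻¹ᵁ U) := Module.isTorsionFree_iff_algebraMap_injective.2 hinj
  letI := FractionRing.liftAlgebra Γ(Y, U) (FractionRing Γ(X, f ⁻¹ᵁ U))
  haveI := hsepF
  haveI : Module.Finite Γ(Y, U) Γ(X, f ⁻¹ᵁ U) := hfin
  let D := differentIdeal Γ(Y, U) Γ(X, f ⁻¹ᵁ U)
  have hD : D ≠ ⊥ := differentIdeal_ne_bot
  refine ⟨hTi, ?_, ?_⟩
  · obtain ⟨d, hdD, hd0⟩ := Submodule.exists_mem_ne_zero_of_ne_bot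
      (mt Ideal.eq_bot_of_comap_eq_bot hD : D.comap (algebraMap Γ(Y, U) Γ(X, f ⁻¹ᵁ U)) ≠ ⊥)
    refine ⟨d, hd0, fun z => ?_⟩
    obtain ⟨r, rfl⟩ := hψs z
    rw [← hψl, hψk]
    exact Ideal.mul_mem_right r _ (show algebraMap Γ(Y, U) Γ(X, f ⁻¹ᵁ U) d ∈ D from hdD)
  letI algk : Algebra k Γ(X, f ⁻¹ᵁ U) :=
    ((X.presheaf.map (homOfLE (le_top : f ⁻¹ᵁ U ≤ ⊤)).op).hom.comp (baseHom k X)).toAlgebra
  -- maximal ideals and closed points
  let pt : Ideal Γ(X, f ⁻¹ᵁ U) → X := fun P => if h : P.IsPrime then hV.fromSpec ⟨P, h⟩ else genericPoint X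
  have hpt : ∀ P : Ideal Γ(X, f ⁻¹ᵁ U), P.IsMaximal → ∃ x : V, x.1 = pt P ∧ IsClosed ({x.1} : Set X) ∧
      (hV.primeIdealOf x).asIdeal = P := by
    intro P hP
    have h0 : pt P = hV.fromSpec ⟨P, hP.isPrime⟩ := dif_pos hP.isPrime
    have hmem : pt P ∈ V := by rw [h0]; exact hV.range_fromSpec.le ⟨_, rfl⟩
    refine ⟨⟨pt P, hmem⟩, rfl, ?_, ?_⟩
    · show IsClosed ({pt P} : Set X)
      rw [h0]
      exact isClosed_fromSpec hdX.le hV _ (ne_bot_of_isMaximal k hdX hV hP)
    · exact congrArg PrimeSpectrum.asIdeal (hV.fromSpec.isOpenEmbedding.injective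
        ((hV.fromSpec_primeIdealOf ⟨pt P, hmem⟩).trans h0))
  have hpoint : ∀ (x : V), IsClosed ({x.1} : Set X) →
      (hV.primeIdealOf x).asIdeal.IsMaximal ∧ pt (hV.primeIdealOf x).asIdeal = x.1 ∧
      ramAt f x.1 - 1 ≤ (normalizedFactors D).count (hV.primeIdealOf x).asIdeal ∧
      ((normalizedFactors D).count (hV.primeIdealOf x).asIdeal = ramAt f x.1 - 1 ↔ TameAt f x.1) ∧
      Module.finrank k (Γ(X, f ⁻¹ᵁ U) ⧸ (hV.primeIdealOf x).asIdeal) = degAt k x.1 ∧
      Module.Finite k (Γ(X, f ⁻¹ᵁ U) ⧸ (hV.primeIdealOf x).asIdeal) ∧ 0 < degAt k x.1 := by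
    intro x hx
    have hy : IsClosed ({f x.1} : Set Y) := by
      rw [← Set.image_singleton]
      exact f.isClosedMap _ hx
    haveI h1 : (primeX f hU x).IsMaximal := isMaximal_primeIdealOf hV x hx
    haveI h2 : (primeY f hU x).IsMaximal := isMaximal_primeIdealOf hU ⟨f x.1, x.2⟩ hy
    haveI h3 := liesOver_primeX f hU x
    have hp : primeY f hU x ≠ ⊥ := by
      intro hb
      refine ne_bot_of_isMaximal k hdX hV h1 (Ideal.eq_bot_of_comap_eq_bot (R := Γ(Y, U)) ?_)
      exact (Ideal.LiesOver.over (p := primeY f hU x) (P := primeX f hU x)).symm.trans hb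
    obtain ⟨hlow, heq⟩ := count_differentIdeal (A := Γ(Y, U)) (B := Γ(X, f ⁻¹ᵁ U)) hp (primeX f hU x)
    have hram : ramAt f x.1 = (primeX f hU x).ramificationIdx Γ(Y, U) := ramificationIdx_point f hU x
    obtain ⟨hfk, hdk⟩ := finrank_point k hV x hx
    refine ⟨h1, ?_, hram ▸ hlow, ?_, hdk, hfk, ?_⟩
    · exact (dif_pos h1.isPrime).trans (hV.fromSpec_primeIdealOf x)
    · rw [hram]
      refine heq.trans ((tame_point f hU x _).symm.trans ?_)
      rw [TameAt, hram]
    · refine lt_of_lt_of_eq ?_ hdk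
      haveI := hfk
      haveI : Nontrivial (Γ(X, f ⁻¹ᵁ U) ⧸ (hV.primeIdealOf x).asIdeal) := Ideal.Quotient.nontrivial_iff.2 h1.ne_top
      exact Module.finrank_pos
  have hfin' : ∀ P : Ideal Γ(X, f ⁻¹ᵁ U), P.IsMaximal → Module.Finite k (Γ(X, f ⁻¹ᵁ U) ⧸ P) := fun P hP => by
    obtain ⟨x, -, hx, rfl⟩ := hpt P hP
    exact (hpoint x hx).2.2.2.2.2.1
  have hmaxF : ∀ P ∈ normalizedFactors D, P.IsMaximal := fun P hP =>
    (Ideal.isPrime_of_prime (prime_of_normalized_factor P hP)).isMaximal (prime_of_normalized_factor P hP).ne_zero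
  let S : Finset X := (normalizedFactors D).toFinset.image pt
  let cnt : X → ℕ := fun x => if h : x ∈ V then (normalizedFactors D).count (hV.primeIdealOf ⟨x, h⟩).asIdeal else 0
  refine ⟨S, cnt, fun x hx => ?_, fun x hxU hxc hxS => ?_, fun x hx => ?_, ?_⟩
  · obtain ⟨P, hP, rfl⟩ := Finset.mem_image.1 hx
    obtain ⟨z, hz, hzc, -⟩ := hpt P (hmaxF P (Multiset.mem_toFinset.1 hP))
    exact ⟨hz ▸ z.2, hz ▸ hzc⟩
  · obtain ⟨-, hp2, hlow, heq, -⟩ := hpoint ⟨x, hxU⟩ hxc
    have h0 : (normalizedFactors D).count (hV.primeIdealOf ⟨x, hxU⟩).asIdeal = 0 := by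
      rw [Multiset.count_eq_zero]
      exact fun hm => hxS (Finset.mem_image.2 ⟨_, Multiset.mem_toFinset.2 hm, hp2⟩)
    rw [h0] at hlow heq
    exact ⟨Nat.le_zero.1 hlow, heq.1 (Nat.le_zero.1 hlow).symm⟩
  · obtain ⟨P, hP, rfl⟩ := Finset.mem_image.1 hx
    obtain ⟨z, hz, hzc, hzP⟩ := hpt P (hmaxF P (Multiset.mem_toFinset.1 hP))
    obtain ⟨-, -, hlow, heq, -, -, hpos⟩ := hpoint z hzc
    rw [← hz]
    have hc : cnt z.1 = (normalizedFactors D).count (hV.primeIdealOf z).asIdeal := dif_pos z.2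
    rw [hc]
    exact ⟨hpos, hlow, heq⟩
  · letI := Module.compHom Γ(disc f hA, U) ((Y.presheaf.map (homOfLE (le_top : U ≤ ⊤)).op).hom.comp (baseHom k Y))
    have hcomm : ∀ c : k, (f.app U).hom (Y.presheaf.map (homOfLE (le_top : U ≤ ⊤)).op (baseHom k Y c)) =
        algebraMap k Γ(X, f ⁻¹ᵁ U) c := by
      intro c
      show (Y.presheaf.map (homOfLE (le_top : U ≤ ⊤)).op ≫ f.app U) (baseHom k Y c) = _
      rw [f.naturality]
      show X.presheaf.map _ (f.app ⊤ (baseHom k Y c)) = X.presheaf.map _ (baseHom k X c)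
      congr 1
      show f.appTop ((Y ↘ Spec (CommRingCat.of k)).appTop ((Scheme.ΓSpecIso (CommRingCat.of k)).inv c)) =
        (X ↘ Spec (CommRingCat.of k)).appTop ((Scheme.ΓSpecIso (CommRingCat.of k)).inv c)
      rw [← ConcreteCategory.comp_apply, ← Scheme.Hom.comp_appTop, hf]
    let ψk : Γ(X, f ⁻¹ᵁ U) →ₗ[k] Γ(disc f hA, U) :=
      { toFun := ψ, map_add' := map_add ψ, map_smul' := fun c r => by
          show ψ (algebraMap k Γ(X, f ⁻¹ᵁ U) c * r) = _
          rw [← hcomm, hψl]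
          rfl }
    have hker : LinearMap.ker ψk = D.restrictScalars k := Submodule.ext fun r => hψk r
    rw [← (ψk.quotKerEquivOfSurjective hψs).finrank_eq,
      ((Submodule.quotEquivOfEq _ _ hker).trans (Submodule.Quotient.restrictScalarsEquiv k D)).finrank_eq,
      finrank_quotient_eq_sum k hfin' D hD, Finset.sum_image]
    · refine Finset.sum_congr rfl fun P hP => ?_
      obtain ⟨z, hz, hzc, hzP⟩ := hpt P (hmaxF P (Multiset.mem_toFinset.1 hP))
      rw [← hz, show cnt z.1 = _ from dif_pos z.2, ← (hpoint z hzc).2.2.2.2.1, hzP]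
    · intro P hP Q hQ h
      obtain ⟨z, hz, -, hzP⟩ := hpt P (hmaxF P (Multiset.mem_toFinset.1 hP))
      obtain ⟨w, hw, -, hwQ⟩ := hpt Q (hmaxF Q (Multiset.mem_toFinset.1 hQ))
      rw [← hzP, ← hwQ, show z = w from Subtype.ext (hz.trans (h.trans hw.symm))]

end Curve

end Groth.Agent.TameHurwitz24
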