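import Groth.Agent.TameHurwitz24.Algebra
import Groth.Agent.Frob15.SplitCover
import Groth.Agent.Coherent.InternalHom
import Groth.Agent.Coherent.Existence.HomAffine
import Groth.Agent.Coherent.CohBC.HomSheaf
import Groth.Agent.CycLib28.PB.Ops.DualSeq

/-!
# The trace pairing of a finite locally free cover
-/

set_option autoImplicit false
set_option linter.style.haveILetI false
set_option backward.isDefEq.respectTransparency.types false
set_option maxHeartbeats 1000000

universe u

open CategoryTheory CategoryTheory.Limits AlgebraicGeometry Opposite TopologicalSpace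
open Groth.Agent.Coherent Groth.Agent.PicLib Groth.Agent.AmpleLib Groth.Agent.FinCovLib29
open Groth.Agent.CycLib28.PB.Ops (dual isFinLocFreeOfRank_dual)
open Groth.Agent.Coherent.Existence (secLinEquiv secLinEquiv_apply)

noncomputable section

namespace Groth.Agent.TameHurwitz24

variable {X Y : Scheme.{u}} (f : X ⟶ Y) [IsAffineHom f]

/-- The direct image algebra. -/
abbrev algP : RelSpec.QCAlg Y := Frob15.algY f

variable (hA : FlatMod.IsFinLocFree (algP f).toModule)

/-- `(a, b) ↦ Tr(ab)`. -/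
def pairing : Bilin (algP f).toModule (algP f).toModule (Coh.structureModule Y) where
  app U a b := tauSec (algP f) hA U (toM (algP f) (toR (algP f) a * toR (algP f) b))
  add_left U a a' b :=
    (congrArg (fun z => tauSec (algP f) hA U (toM (algP f) z)) (add_mul (toR (algP f) a) (toR (algP f) a') (toR (algP f) b))).trans
      (tauSec_add (algP f) hA U _ _)
  add_right U a b b' :=
    (congrArg (fun z => tauSec (algP f) hA U (toM (algP f) z)) (mul_add (toR (algP f) a) (toR (algP f) b) (toR (algP f) b'))).trans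
      (tauSec_add (algP f) hA U _ _)
  smul_left U r a b :=
    (congrArg (fun z => tauSec (algP f) hA U (toM (algP f) z))
      ((congrArg (· * toR (algP f) b) (toR_smul (algP f) r a)).trans (mul_assoc _ _ _))).trans
      (tauSec_smul (algP f) hA U r _)
  smul_right U r a b :=
    (congrArg (fun z => tauSec (algP f) hA U (toM (algP f) z))
      ((congrArg (toR (algP f) a * ·) (toR_smul (algP f) r b)).trans (mul_left_comm _ _ _))).trans
      (tauSec_smul (algP f) hA U r _)
  res U V h a b := (tauSec_res (algP f) hA h _).trans (congrArg (tauSec (algP f) hA V)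
    (map_mul ((algP f).presheaf.map (homOfLE h).op).hom (toR (algP f) a) (toR (algP f) b)))

/-- The trace map into the dual. -/
def traceMap : (algP f).toModule ⟶ dual (algP f).toModule := curry (pairing f hA)

/-- The cokernel of the trace map. -/
abbrev disc : Y.Modules := cokernel (traceMap f hA)

variable {U : Y.Opens} (hU : IsAffineOpen U) (hgood : Good (algP f) U)

include hU hgood in
/-- The value of the trace map on an affine open with a basis. -/
theorem ev_traceMap (a x : Γ((algP f).toModule, U)) :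
    ev (secHom ((traceMap f hA).app U a)) U le_rfl x = trSec (algP f) U (toM (algP f) (toR (algP f) x * toR (algP f) a)) := by
  refine (ev_curry (pairing f hA) a U le_rfl x).trans ?_
  rw [resM_self]
  obtain ⟨hfree, hfin⟩ := good_iff_affine_free (algP f) hgood
  exact (tau_app (algP f) hA U _).symm.trans (isTrace_app_good (algP f) (isTrace_tau (algP f) hA) hA hgood _)

variable [IsDedekindDomain Γ(Y, U)] [IsDedekindDomain Γ(X, f ⁻¹ᵁ U)] [IsDomain Γ(Y, U)] [IsDomain Γ(X, f ⁻¹ᵁ U)]

include hU hgood in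
/-- Sections of the cokernel over an affine open with a basis: `B / D`. -/
theorem exists_disc_sections
    (hinj : Function.Injective (f.app U).hom)
    (hsep : letI := (f.app U).hom.toAlgebra; letI : FaithfulSMul Γ(Y, U) Γ(X, f ⁻¹ᵁ U) := (faithfulSMul_iff_algebraMap_injective _ _).2 hinj
      letI := FractionRing.liftAlgebra Γ(Y, U) (FractionRing Γ(X, f ⁻¹ᵁ U))
      Algebra.IsSeparable (FractionRing Γ(Y, U)) (FractionRing Γ(X, f ⁻¹ᵁ U))) :
    Function.Injective ((traceMap f hA).app U) ∧
    ∃ ψ : Γ(X, f ⁻¹ᵁ U) →+ Γ(disc f hA, U), Function.Surjective ψ ∧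
      (∀ (c : Γ(Y, U)) (r : Γ(X, f ⁻¹ᵁ U)), ψ ((f.app U).hom c * r) = c • ψ r) ∧
      ∀ r : Γ(X, f ⁻¹ᵁ U), ψ r = 0 ↔ r ∈ (letI := (f.app U).hom.toAlgebra; haveI : Module.IsTorsionFree Γ(Y, U) Γ(X, f ⁻¹ᵁ U) := Module.isTorsionFree_iff_algebraMap_injective.2 hinj; differentIdeal Γ(Y, U) Γ(X, f ⁻¹ᵁ U)) := by
  letI alg : Algebra Γ(Y, U) Γ(X, f ⁻¹ᵁ U) := (f.app U).hom.toAlgebra
  haveI : FaithfulSMul Γ(Y, U) Γ(X, f ⁻¹ᵁ U) := (faithfulSMul_iff_algebraMap_injective _ _).2 hinj
  haveI : Module.IsTorsionFree Γ(Y, U) Γ(X, f ⁻¹ᵁ U) := Module.isTorsionFree_iff_algebraMap_injective.2 hinj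
  letI := FractionRing.liftAlgebra Γ(Y, U) (FractionRing Γ(X, f ⁻¹ᵁ U))
  haveI := hsep
  obtain ⟨hfree, hfin⟩ := good_iff_affine_free (algP f) hgood
  haveI : Module.Free Γ(Y, U) Γ(X, f ⁻¹ᵁ U) := hfree
  haveI : Module.Finite Γ(Y, U) Γ(X, f ⁻¹ᵁ U) := hfin
  obtain ⟨hT, g, hg, hgD⟩ := exists_trace_coker Γ(Y, U) (B := Γ(X, f ⁻¹ᵁ U))
  haveI := Coherent.CohBC.isQCoh_internalHom (F := (algP f).toModule) (G := Coh.structureModule Y) hA
    (LocFreeLib.isFinLocFree_of_rank (PicLib.isFinLocFreeOfRank_one (AmpleLib.isInvertible_structureModule (X := Y))))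
  haveI : Coh.IsQCoh (algP f).toModule := (CohBC.isCoh_of_isFinLocFree hA).1
  -- the dictionary
  let toH : (Γ(X, f ⁻¹ᵁ U) →ₗ[Γ(Y, U)] Γ(Y, U)) → (Γ((algP f).toModule, U) →ₗ[Γ(Y, U)] Γ(Coh.structureModule Y, U)) :=
    fun L => { toFun := fun x => L (show Γ(X, f ⁻¹ᵁ U) from x), map_add' := fun x y => map_add L _ _,
               map_smul' := fun c x => map_smul L c (show Γ(X, f ⁻¹ᵁ U) from x) }
  let σ := secLinEquiv (F := (algP f).toModule) (N := Coh.structureModule Y) hU
  have hσ : ∀ a, σ ((traceMap f hA).app U a) = toH (Algebra.traceForm Γ(Y, U) Γ(X, f ⁻¹ᵁ U) (toR (algP f) a)) := by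
    intro a
    refine LinearMap.ext fun x => ?_
    refine (secLinEquiv_apply hU _ x).trans ((ev_traceMap f hA hU hgood a x).trans ?_)
    show Algebra.trace Γ(Y, U) Γ(X, f ⁻¹ᵁ U) _ = Algebra.trace Γ(Y, U) Γ(X, f ⁻¹ᵁ U) (toR (algP f) a * toR (algP f) x)
    exact congrArg _ (mul_comm _ _)
  have htoH : Function.Injective toH := fun L L' h => LinearMap.ext fun x => LinearMap.congr_fun h (toM (algP f) x)
  refine ⟨fun a b h => hT (htoH (by rw [← hσ, ← hσ, h])), ?_⟩
  let π := cokernel.π (traceMap f hA)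
  let ψ : Γ(X, f ⁻¹ᵁ U) →+ Γ(disc f hA, U) := AddMonoidHom.mk'
    (fun r => π.app U (σ.symm (toH (g ∘ₗ LinearMap.mulLeft Γ(Y, U) r))))
    (fun r r' => by
      rw [← map_add, ← map_add]
      refine congrArg (fun z => π.app U (σ.symm z)) (LinearMap.ext fun x => ?_)
      exact (congrArg g (add_mul r r' (toR (algP f) x))).trans (map_add g _ _))
  refine ⟨ψ, fun z => ?_, fun c r => ?_, fun r => ?_⟩
  · obtain ⟨s, rfl⟩ := Frob15.cokernelπ_surjective (traceMap f hA) hU z
    obtain ⟨L, hL⟩ : ∃ L, toH L = σ s :=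
      ⟨{ toFun := fun x => σ s (toM (algP f) x), map_add' := fun x y => map_add (σ s) _ _,
         map_smul' := fun c x => map_smul (σ s) c (toM (algP f) x) }, rfl⟩
    obtain ⟨r, t, ht⟩ := hg L
    refine ⟨r, ?_⟩
    have h1 : s = (traceMap f hA).app U (toM (algP f) t) + σ.symm (toH (g ∘ₗ LinearMap.mulLeft Γ(Y, U) r)) := by
      refine σ.injective ?_
      rw [map_add, σ.apply_symm_apply, hσ, ← hL, ht]
      rfl
    have h2 : π.app U ((traceMap f hA).app U (toM (algP f) t)) = 0 :=
      congrArg (fun m : (algP f).toModule ⟶ disc f hA => m.app U (toM (algP f) t)) (cokernel.condition (traceMap f hA))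
    show π.app U _ = π.app U s
    rw [h1, map_add, h2, zero_add]
  · show π.app U _ = c • π.app U _
    rw [← Scheme.Modules.Hom.app_smul, ← map_smul]
    refine congrArg (fun z => π.app U (σ.symm z)) (LinearMap.ext fun x => ?_)
    show g (((f.app U).hom c * r) * (show Γ(X, f ⁻¹ᵁ U) from x)) = c • g (r * (show Γ(X, f ⁻¹ᵁ U) from x))
    rw [← map_smul, mul_assoc]
    rfl
  · constructor
    · intro h
      obtain ⟨t, ht⟩ := Frob15.cokernelπ_exact (traceMap f hA) hU _ h
      refine (hgD r).1 ⟨toR (algP f) t, htoH ?_⟩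
      rw [← hσ, ht, σ.apply_symm_apply]
    · intro h
      obtain ⟨s, hs⟩ := (hgD r).2 h
      show π.app U _ = 0
      rw [← hs, ← hσ (toM (algP f) s), σ.symm_apply_apply]
      exact congrArg (fun m : (algP f).toModule ⟶ disc f hA => m.app U (toM (algP f) s)) (cokernel.condition (traceMap f hA))

end Groth.Agent.TameHurwitz24
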